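import Mathlib

/-!
The sign character of a finite field of characteristic two with kernel `{y² + y}`, and quadratic sums.
-/

set_option autoImplicit false

open Classical

namespace Cfsg.Agent.H65

variable {F : Type*} [Field F] [CharP F 2]

/-- The Artin-Schreier map `y ↦ y² + y`. -/
def asHom (F : Type*) [Field F] [CharP F 2] : F →+ F :=
  AddMonoidHom.mk' (fun y => y ^ 2 + y) fun a b => by
    rw [CharTwo.add_sq]; ring

@[simp] theorem asHom_apply (y : F) : asHom F y = y ^ 2 + y := rfl

theorem index_asHom_range [Finite F] : (asHom F).range.index = 2 := by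
  have h1 := AddSubgroup.card_mul_index (asHom F).range
  have h2 := AddSubgroup.card_eq_card_quotient_mul_card_addSubgroup (asHom F).ker
  rw [Nat.card_congr (QuotientAddGroup.quotientKerEquivRange (asHom F)).toEquiv] at h2
  have hk : Nat.card (asHom F).ker = 2 := by
    rw [← SetLike.coe_sort_coe, Nat.card_coe_set_eq]
    have : ((asHom F).ker : Set F) = {0, 1} := by
      ext y
      simp only [SetLike.mem_coe, AddMonoidHom.mem_ker, asHom_apply, Set.mem_insert_iff, Set.mem_singleton_iff]
      constructor
      · intro h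
        rcases mul_eq_zero.mp (show y * (y + 1) = 0 by linear_combination h) with h | h
        · exact Or.inl h
        · exact Or.inr (CharTwo.add_eq_zero.mp h)
      · rintro (rfl | rfl) <;> simp [CharTwo.add_self_eq_zero]
    rw [this, Set.ncard_pair zero_ne_one]
  have hpos : 0 < Nat.card (asHom F).range := Nat.card_pos
  rw [hk] at h2
  exact Nat.eq_of_mul_eq_mul_left hpos (h1.trans h2)

/-- The character of `F` that is `1` exactly on `{y² + y}`. -/
noncomputable def sgnF (a : F) : ℤ := if a ∈ (asHom F).range then 1 else -1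

theorem sgnF_eq_one_iff (a : F) : sgnF a = 1 ↔ ∃ y, y ^ 2 + y = a := by
  unfold sgnF
  split_ifs with h
  · simpa using AddMonoidHom.mem_range.mp h
  · simp only [AddMonoidHom.mem_range, asHom_apply] at h
    simp [h]

theorem sgnF_mul_self (a : F) : sgnF a * sgnF a = 1 := by
  unfold sgnF; split_ifs <;> rfl

theorem sgnF_add [Finite F] (a b : F) : sgnF (a + b) = sgnF a * sgnF b := by
  have := AddSubgroup.add_mem_iff_of_index_two (index_asHom_range (F := F)) (a := a) (b := b)
  unfold sgnF
  by_cases ha : a ∈ (asHom F).range <;> by_cases hb : b ∈ (asHom F).range <;> simp_all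

@[simp] theorem sgnF_zero : sgnF (0 : F) = 1 := by
  simp [sgnF]

theorem sgnF_sq [Finite F] (a : F) : sgnF (a ^ 2) = sgnF a := by
  rw [show a ^ 2 = (a ^ 2 + a) + a by rw [add_assoc, CharTwo.add_self_eq_zero, add_zero], sgnF_add,
    (sgnF_eq_one_iff (a ^ 2 + a)).mpr ⟨a, rfl⟩, one_mul]

theorem exists_sgnF_neg [Finite F] : ∃ a : F, sgnF a = -1 := by
  obtain ⟨a, ha⟩ : ∃ a : F, a ∉ (asHom F).range := by
    by_contra h
    push Not at h
    have := index_asHom_range (F := F)
    rw [show (asHom F).range = ⊤ from eq_top_iff.mpr fun x _ => h x] at this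
    simp at this
  exact ⟨a, by rw [sgnF, if_neg ha]⟩

/-- A sum over a group vanishes if a translation multiplies all terms by `-1`. -/
theorem sum_eq_zero_of_translate {A : Type*} [AddGroup A] [Fintype A] (φ : A → ℤ) (a₀ : A)
    (h : ∀ a, φ (a + a₀) = - φ a) : ∑ a, φ a = 0 := by
  have : ∑ a, φ (a + a₀) = ∑ a, φ a :=
    Fintype.sum_equiv (Equiv.addRight a₀) _ _ fun a => rfl
  simp only [h, Finset.sum_neg_distrib] at this
  omega

/-- A non-zero linear functional composed with the character sums to zero. -/
theorem sum_sgnF_linear [Finite F] {V : Type*} [AddCommGroup V] [Module F V] [Fintype V]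
    (l : V →ₗ[F] F) (hl : l ≠ 0) : ∑ v, sgnF (l v) = 0 := by
  obtain ⟨a, ha⟩ := exists_sgnF_neg (F := F)
  obtain ⟨v₀, hv₀⟩ := (LinearMap.surjective hl) a
  exact sum_eq_zero_of_translate _ v₀ fun v => by rw [map_add, sgnF_add, hv₀, ha, mul_neg_one]

end Cfsg.Agent.H65
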