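import Cfsg.Agent.H65.OmegaParity

/-!
`Ω` in matrix form in characteristic two.
-/

set_option autoImplicit false

open QuadraticMap Matrix

namespace Cfsg.Agent.H65

variable {F : Type*} [Field F] [CharP F 2] [Fintype F] {ι : Type} [Fintype ι] [DecidableEq ι]

omit [CharP F 2] [Fintype F] in
theorem dLin_isoEquiv (Q : QuadraticForm F (ι → F)) {f : (ι → F) → F} (hf : ⇑Q = f)
    (g : Cfsg.isometryGroup F f) :
    H5.dLin (H5.isoEquiv Q hf g) =
      Matrix.toLin' (((g : Matrix.GeneralLinearGroup ι F) : Matrix ι ι F) - 1) := by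
  refine LinearMap.ext fun x => ?_
  rw [H5.dLin_apply, H5.isoEquiv_apply, Matrix.toLin'_apply, Matrix.sub_mulVec, Matrix.one_mulVec]

omit [CharP F 2] [Fintype F] in
theorem rk_isoEquiv (Q : QuadraticForm F (ι → F)) {f : (ι → F) → F} (hf : ⇑Q = f)
    (g : Cfsg.isometryGroup F f) :
    H5.rk (H5.isoEquiv Q hf g) =
      (((g : Matrix.GeneralLinearGroup ι F) : Matrix ι ι F) - 1).rank := by
  rw [H5.rk, H5.resid, dLin_isoEquiv]; rfl

omit [CharP F 2] in
theorem excl_of_card (h : Fintype.card F ≠ 2 ∨ Fintype.card ι ≠ 4) :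
    Nat.card F ≠ 2 ∨ Module.finrank F (ι → F) ≠ 4 := by
  rwa [Nat.card_eq_fintype_card, Module.finrank_fintype_fun_eq_card]

/-- Membership in `Ω` is evenness of `rank (g - 1)`. -/
theorem mem_Omega_iff_even_rank (Q : QuadraticForm F (ι → F)) {f : (ι → F) → F} (hf : ⇑Q = f)
    (hQ : (polarBilin Q).Nondegenerate) (h : Fintype.card F ≠ 2 ∨ Fintype.card ι ≠ 4)
    (g : Cfsg.isometryGroup F f) :
    g ∈ Cfsg.Omega F f ↔ Even (((g : Matrix.GeneralLinearGroup ι F) : Matrix ι ι F) - 1).rank := by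
  rw [H5.mem_Omega_iff Q hf, mem_omega_iff_even hQ (excl_of_card h), rk_isoEquiv]

/-- Classes do not split unless the fixed space is totally singular. -/
theorem exists_Omega_conj (Q : QuadraticForm F (ι → F)) {f : (ι → F) → F} (hf : ⇑Q = f)
    (hQ : (polarBilin Q).Nondegenerate) (h : Fintype.card F ≠ 2 ∨ Fintype.card ι ≠ 4)
    (t s : Cfsg.isometryGroup F f) (hconj : IsConj t s)
    (hns : ∃ u ∈ H5.fixer (H5.isoEquiv Q hf t), Q u ≠ 0) :
    ∃ g ∈ Cfsg.Omega F f, g * t * g⁻¹ = s := by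
  obtain ⟨g, hg⟩ := isConj_iff.mp hconj
  obtain ⟨g', hg', he⟩ := exists_omega_conj hQ (excl_of_card h) (t := H5.isoEquiv Q hf t)
    (s := H5.isoEquiv Q hf s) (g := H5.isoEquiv Q hf g) (by rw [← hg]; simp) hns
  refine ⟨(H5.isoEquiv Q hf).symm g', ?_, ?_⟩
  · rw [H5.mem_Omega_iff Q hf, MulEquiv.apply_symm_apply]; exact hg'
  · apply (H5.isoEquiv Q hf).injective
    simpa using he

/-- In even dimension a vanishing fixed space forces rank half the dimension. -/
theorem fixer_facts (Q : QuadraticForm F (ι → F)) {f : (ι → F) → F} (hf : ⇑Q = f)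
    (hQ : (polarBilin Q).Nondegenerate) (t : Cfsg.isometryGroup F f) (ht : orderOf t = 2)
    (hs : ∀ u ∈ H5.fixer (H5.isoEquiv Q hf t), Q u = 0) :
    2 * (((t : Matrix.GeneralLinearGroup ι F) : Matrix ι ι F) - 1).rank = Fintype.card ι ∧
      ∀ v, f (v + ((t : Matrix.GeneralLinearGroup ι F) : Matrix ι ι F) *ᵥ v) = 0 := by
  have h2 : H5.isoEquiv Q hf t * H5.isoEquiv Q hf t = 1 := by
    rw [← map_mul, ← pow_two, ← ht, pow_orderOf_eq_one, map_one]
  obtain ⟨h1, h3⟩ := involution_singular_fixer hQ _ h2 hs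
  rw [rk_isoEquiv, Module.finrank_fintype_fun_eq_card] at h1
  refine ⟨h1, fun v => ?_⟩
  refine (congrFun hf _).symm.trans ?_
  refine hs _ (h3 ▸ ⟨v, ?_⟩)
  rw [H5.dLin_apply, H5.isoEquiv_apply, add_comm]
  ext i
  exact CharTwo.sub_eq_add _ _

end Cfsg.Agent.H65
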