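import Cfsg.Agent.H65.OmegaTwo

/-!
Parity of the intersection of maximal totally singular subspaces.
-/

set_option autoImplicit false

open QuadraticMap Module

namespace Cfsg.Agent.H65

variable {F V : Type*} [Field F] [CharP F 2] [AddCommGroup V] [Module F V]
  [FiniteDimensional F V] {Q : QuadraticForm F V}

omit [CharP F 2] [FiniteDimensional F V] in
theorem perp_sup' (U W : Submodule F V) : H4.perp Q (U ⊔ W) = H4.perp Q U ⊓ H4.perp Q W :=
  H5.perp_sup U W

/-- A reflection changes the parity of the intersection with a maximal totally singular subspace. -/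
theorem finrank_inf_refl_parity (hQ : (polarBilin Q).Nondegenerate) {W W' : Submodule F V} {m : ℕ}
    (hm : finrank F V = 2 * m) (hW : ∀ w ∈ W, Q w = 0) (hW' : ∀ w ∈ W', Q w = 0)
    (hd : finrank F W = m) (hd' : finrank F W' = m) {a : V} (ha : Q a ≠ 0) :
    Even (finrank F (W ⊓ W' : Submodule F V) +
      finrank F (W ⊓ W'.map ((H5.refl Q a : V ≃ₗ[F] V) : V →ₗ[F] V) : Submodule F V) + 1) := by
  set r : V ≃ₗ[F] V := (H5.refl Q a : V ≃ₗ[F] V) with hr
  set W'' := W'.map (r : V →ₗ[F] V) with hW''def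
  set H := W' ⊓ LinearMap.ker (polarBilin Q a) with hH
  have hW'' : ∀ w ∈ W'', Q w = 0 := by
    rintro _ ⟨x, hx, rfl⟩
    show Q ((H5.refl Q a : V ≃ₗ[F] V) x) = 0
    rw [H5.orth_map, hW' x hx]
  have haW : a ∉ W' := fun h => ha (hW' a h)
  have hp' := perp_eq_self_of_singular hQ hW' (by omega)
  obtain ⟨v₀, hv₀, hv₀a⟩ : ∃ v ∈ W', polar Q a v ≠ 0 := by
    by_contra hc
    push Not at hc
    refine haW (hp' ▸ (fun v hv => ?_))
    show polar Q v a = 0
    rw [polar_comm]; exact hc v hv
  have hHd : finrank F H + 1 = m := by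
    have h1 := ((polarBilin Q a).comp W'.subtype).finrank_range_add_finrank_ker
    have hs : LinearMap.range ((polarBilin Q a).comp W'.subtype) = ⊤ :=
      LinearMap.range_eq_top.mpr (LinearMap.surjective fun h =>
        hv₀a (LinearMap.congr_fun h ⟨v₀, hv₀⟩))
    rw [hs, finrank_top, finrank_self, hd', LinearMap.ker_comp] at h1
    have e : finrank F (Submodule.comap W'.subtype (LinearMap.ker (polarBilin Q a))) = finrank F H := by
      rw [hH, ← Submodule.finrank_map_subtype_eq, Submodule.map_comap_eq, Submodule.range_subtype]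
    omega
  have hHW' : H ≤ W' := inf_le_left
  have hHW'' : H ≤ W'' := fun x hx =>
    ⟨x, hHW' hx, H5.refl_apply_of_ortho (LinearMap.mem_ker.mp hx.2)⟩
  have hW'H : W' ≤ H4.perp Q H := fun x hx z hz => H4.polar_eq_zero_of_singular hW' (hHW' hz) hx
  have hW''H : W'' ≤ H4.perp Q H := fun x hx z hz => H4.polar_eq_zero_of_singular hW'' (hHW'' hz) hx
  have hdim : finrank F (W ⊓ H4.perp Q H : Submodule F V) = finrank F (W ⊓ H : Submodule F V) + 1 := by
    have h1 := Submodule.finrank_sup_add_finrank_inf_eq W H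
    have h2 := H4.finrank_perp hQ (W ⊔ H)
    rw [perp_sup', perp_eq_self_of_singular hQ hW (by omega)] at h2
    have := Submodule.finrank_le (W ⊔ H)
    omega
  have hle1 : W ⊓ H ≤ W ⊓ W' := inf_le_inf_left W hHW'
  have hle2 : W ⊓ H ≤ W ⊓ W'' := inf_le_inf_left W hHW''
  have hup1 : W ⊓ W' ≤ W ⊓ H4.perp Q H := inf_le_inf_left W hW'H
  have hup2 : W ⊓ W'' ≤ W ⊓ H4.perp Q H := inf_le_inf_left W hW''H
  have hboth : ¬ (finrank F (W ⊓ W' : Submodule F V) = finrank F (W ⊓ H : Submodule F V) + 1 ∧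
      finrank F (W ⊓ W'' : Submodule F V) = finrank F (W ⊓ H : Submodule F V) + 1) := by
    rintro ⟨h1, h2⟩
    have e1 := Submodule.eq_of_le_of_finrank_eq hup1 (by omega)
    have e2 := Submodule.eq_of_le_of_finrank_eq hup2 (by omega)
    have hsub : W ⊓ H4.perp Q H ≤ W ⊓ H := by
      intro x hx
      have hx' : x ∈ W ⊓ W' := e1 ▸ hx
      obtain ⟨y, hy, hyx⟩ : x ∈ W'' := (e2 ▸ hx : x ∈ W ⊓ W'').2
      refine ⟨hx'.1, hx'.2, LinearMap.mem_ker.mpr ?_⟩
      show polar Q a x = 0
      by_contra hne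
      apply haW
      change r y = x at hyx
      have hyx' := hyx
      rw [hr, H5.refl_apply] at hyx'
      have hc : ((Q a)⁻¹ * polar Q a y) • a ∈ W' := by
        have : ((Q a)⁻¹ * polar Q a y) • a = y - x := by rw [← hyx']; abel
        rw [this]; exact W'.sub_mem hy hx'.2
      have hne' : polar Q a y ≠ 0 := fun h0 => hne (by
        rw [← hyx', h0, mul_zero, zero_smul, sub_zero, h0])
      exact (W'.smul_mem_iff (mul_ne_zero (inv_ne_zero ha) hne')).mp hc
    have := Submodule.finrank_mono hsub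
    omega
  have hone : finrank F (W ⊓ W' : Submodule F V) = finrank F (W ⊓ H : Submodule F V) + 1 ∨
      finrank F (W ⊓ W'' : Submodule F V) = finrank F (W ⊓ H : Submodule F V) + 1 := by
    obtain ⟨z, hz, hzH⟩ : ∃ z ∈ W ⊓ H4.perp Q H, z ∉ W ⊓ H := by
      by_contra hc
      push Not at hc
      have := Submodule.finrank_mono (show W ⊓ H4.perp Q H ≤ W ⊓ H from hc)
      omega
    have htop : H4.perp Q H = W' ⊔ F ∙ a := by
      have haH : a ∈ H4.perp Q H := fun x hx => by
        show polar Q x a = 0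
        rw [polar_comm]; exact LinearMap.mem_ker.mp hx.2
      refine (Submodule.eq_of_le_of_finrank_eq (sup_le hW'H ((Submodule.span_singleton_le_iff_mem a _).mpr haH)) ?_).symm
      rw [Submodule.finrank_sup_span_singleton haW, H4.finrank_perp hQ, hd']
      omega
    have hzH' : z ∈ W' ⊔ F ∙ a := htop ▸ hz.2
    obtain ⟨w', hw', _, ⟨γ, rfl⟩, rfl⟩ : ∃ w' ∈ W', ∃ b, (∃ γ : F, γ • a = b) ∧ w' + b = z := by
      obtain ⟨w', hw', b, hb, e⟩ := Submodule.mem_sup.mp hzH'
      exact ⟨w', hw', b, Submodule.mem_span_singleton.mp hb, e⟩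
    have hQz := hW _ hz.1
    rw [QuadraticMap.map_add Q, hW' w' hw', QuadraticMap.map_smul, polar_smul_right, polar_comm] at hQz
    simp only [smul_eq_mul] at hQz
    by_cases hγ : γ = 0
    · left
      rw [hγ, zero_smul, add_zero] at hz hzH
      have hlt : W ⊓ H < W ⊓ W' := lt_of_le_of_ne hle1 fun e => hzH (e ▸ ⟨hz.1, hw'⟩)
      have := Submodule.finrank_lt_finrank_of_lt hlt
      have := Submodule.finrank_mono hup1
      omega
    · right
      have hz'' : w' + γ • a ∈ W'' := by
        refine ⟨w', hw', ?_⟩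
        show (H5.refl Q a : V ≃ₗ[F] V) w' = _
        rw [H5.refl_apply, sub_eq_add_neg, ← neg_smul, CharTwo.neg_eq]
        congr 2
        rw [zero_add] at hQz
        have : γ * (γ * Q a + polar Q a w') = 0 := by linear_combination hQz
        rw [mul_eq_zero, or_iff_right hγ, CharTwo.add_eq_zero] at this
        rw [← this]
        field_simp
      have hlt : W ⊓ H < W ⊓ W'' := lt_of_le_of_ne hle2 fun e => hzH (e ▸ ⟨hz.1, hz''⟩)
      have := Submodule.finrank_lt_finrank_of_lt hlt
      have := Submodule.finrank_mono hup2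
      omega
  have a1 := Submodule.finrank_mono hle1
  have a2 := Submodule.finrank_mono hup1
  have b1 := Submodule.finrank_mono hle2
  have b2 := Submodule.finrank_mono hup2
  rw [Nat.even_iff]
  omega

variable [Finite F] [Finite V]

/-- The Dickson parity is the parity of `m - dim (W ∩ g W)`. -/
theorem even_rk_iff_inf (hQ : (polarBilin Q).Nondegenerate)
    (h : Nat.card F ≠ 2 ∨ finrank F V ≠ 4) {W : Submodule F V} {m : ℕ}
    (hm : finrank F V = 2 * m) (hW : ∀ w ∈ W, Q w = 0) (hd : finrank F W = m) (g : H5.orth Q) :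
    Even (H5.rk g) ↔ Even (finrank F (W ⊓ W.map ((g : V ≃ₗ[F] V) : V →ₗ[F] V) : Submodule F V) + m) := by
  have hg : g ∈ H5.reflGroup Q := by rw [H5.reflGroup_eq_top hQ h]; exact Subgroup.mem_top _
  revert hg
  generalize hP : (fun g : H5.orth Q => Even (H5.rk g) ↔ Even (finrank F (W ⊓ W.map ((g : V ≃ₗ[F] V) : V →ₗ[F] V) : Submodule F V) + m)) = P
  intro hg
  suffices hs : P g by subst hP; exact hs
  refine H5.reflGroup_induction (p := P) ?_ ?_ hg <;> subst hP
  · dsimp only
    have e : W.map (((1 : H5.orth Q) : V ≃ₗ[F] V) : V →ₗ[F] V) = W := Submodule.map_id W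
    rw [H5.rk_one, e, inf_idem, hd]
    simp
  · intro v g hv _ ih
    have hp : Even (H5.rk (H5.refl Q v * g)) ↔ ¬ Even (H5.rk g) := by
      have := H5.dick_refl_mul hQ hv g
      by_cases he : Even (H5.rk g) <;> by_cases he' : Even (H5.rk (H5.refl Q v * g))
      · simp [H5.dick, he.neg_one_pow, he'.neg_one_pow] at this
      · simp [he, he']
      · simp [he, he']
      · rw [H5.dick, H5.dick, (Nat.not_even_iff_odd.mp he).neg_one_pow,
          (Nat.not_even_iff_odd.mp he').neg_one_pow] at this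
        simp at this
    have e : W.map (((H5.refl Q v * g : H5.orth Q) : V ≃ₗ[F] V) : V →ₗ[F] V)
        = (W.map ((g : V ≃ₗ[F] V) : V →ₗ[F] V)).map ((H5.refl Q v : V ≃ₗ[F] V) : V →ₗ[F] V) := by
      rw [← Submodule.map_comp]; rfl
    have hsing : ∀ w ∈ W.map ((g : V ≃ₗ[F] V) : V →ₗ[F] V), Q w = 0 := by
      rintro _ ⟨x, hx, rfl⟩
      show Q ((g : V ≃ₗ[F] V) x) = 0
      rw [H5.orth_map, hW x hx]
    have hstep := finrank_inf_refl_parity hQ hm hW hsing hd (by rw [LinearEquiv.finrank_map_eq, hd]) hv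
    rw [hp, ih, e]
    rw [Nat.even_iff] at hstep
    simp only [Nat.even_iff]
    omega

end Cfsg.Agent.H65
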