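import Cfsg.Agent.H4.WittExt
import Cfsg.Agent.H65.AddChar

/-!
Gauss sums of quadratic forms in characteristic two.
-/

set_option autoImplicit false

open QuadraticMap

namespace Cfsg.Agent.H65

variable {F V : Type*} [Field F] [CharP F 2] [AddCommGroup V] [Module F V] [Fintype V]

/-- The Gauss sum of `Q`. -/
noncomputable def qSum (Q : QuadraticForm F V) : ℤ := ∑ v, sgnF (Q v)

/-- The Gauss sum over a subspace. -/
noncomputable def qSumOn (Q : QuadraticForm F V) (W : Submodule F V) : ℤ := by
  classical exact ∑ v ∈ Finset.univ.filter (fun v => v ∈ W), sgnF (Q v)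

omit [Fintype V] in
theorem polar_self_char_two (Q : QuadraticForm F V) (v : V) : polar Q v v = 0 := by
  rw [polar_self, two_nsmul, CharTwo.add_self_eq_zero]

theorem qSum_congr (Q : QuadraticForm F V) (g : V ≃ V) : ∑ v, sgnF (Q (g v)) = qSum Q :=
  Fintype.sum_equiv g _ _ fun _ => rfl

variable [Finite F]

omit [Fintype V] in
theorem sgnF_map_add (Q : QuadraticForm F V) (a b : V) :
    sgnF (Q (a + b)) = sgnF (Q a) * sgnF (Q b) * sgnF (polar Q a b) := by
  rw [QuadraticMap.map_add Q, sgnF_add, sgnF_add]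

/-- `S² = |V|`. -/
theorem qSum_mul_self (Q : QuadraticForm F V) (hQ : (polarBilin Q).Nondegenerate) :
    qSum Q * qSum Q = Fintype.card V := by
  classical
  have h1 : ∀ v, sgnF (Q v) * qSum Q = ∑ w, sgnF (Q w) * sgnF (polar Q v w) := fun v => by
    rw [← qSum_congr Q (Equiv.addLeft v), Finset.mul_sum]
    refine Finset.sum_congr rfl fun w _ => ?_
    rw [Equiv.coe_addLeft, sgnF_map_add, ← mul_assoc, ← mul_assoc, sgnF_mul_self, one_mul]
  have h2 : qSum Q * qSum Q = ∑ w, sgnF (Q w) * ∑ v, sgnF (polar Q v w) := by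
    have : qSum Q * qSum Q = ∑ v, sgnF (Q v) * qSum Q := by
      rw [← Finset.sum_mul]; rfl
    rw [this]
    simp only [h1, Finset.mul_sum]
    exact Finset.sum_comm
  rw [h2, Finset.sum_eq_single (0 : V)]
  · simp [polar_zero_right]
  · intro w _ hw
    have hl : (polarBilin Q).flip w ≠ 0 := fun h =>
      hw (hQ.2 w fun v => LinearMap.congr_fun h v)
    have := sum_sgnF_linear _ hl
    simp only [LinearMap.flip_apply, polarBilin_apply_apply] at this
    rw [this, mul_zero]
  · simp

theorem qSum_ne_zero (Q : QuadraticForm F V) (hQ : (polarBilin Q).Nondegenerate) : qSum Q ≠ 0 := by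
  intro h
  have := qSum_mul_self Q hQ
  rw [h, mul_zero] at this
  exact Fintype.card_ne_zero (by exact_mod_cast this.symm : Fintype.card V = 0)

/-- Twisting `Q` by the square of the functional of `u` multiplies the sum by `sgnF (Q u)`. -/
theorem qSum_twist (Q : QuadraticForm F V) (u : V) :
    ∑ v, sgnF (Q v + polar Q u v ^ 2) = sgnF (Q u) * qSum Q := by
  rw [← qSum_congr Q (Equiv.addLeft u), Finset.mul_sum]
  refine Finset.sum_congr rfl fun v _ => ?_
  rw [Equiv.coe_addLeft, sgnF_map_add, ← mul_assoc, ← mul_assoc, sgnF_mul_self, one_mul, sgnF_add, sgnF_sq]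

/-- If `Q` vanishes on `W`, the sum reduces to the perp of `W`. -/
theorem qSum_eq_qSumOn_perp (Q : QuadraticForm F V)
    (W : Submodule F V) (hW : ∀ w ∈ W, Q w = 0) : qSum Q = qSumOn Q (H4.perp Q W) := by
  classical
  have h1 : ∀ w : W, ∑ v, sgnF (Q v) * sgnF (polar Q v (w : V)) = qSum Q := fun w => by
    rw [← qSum_congr Q (Equiv.addRight (w : V))]
    refine Finset.sum_congr rfl fun v _ => ?_
    rw [Equiv.coe_addRight, sgnF_map_add, hW _ w.2, sgnF_zero, mul_one]
  have h2 : (Fintype.card W : ℤ) * qSum Q = ∑ v, sgnF (Q v) * ∑ w : W, sgnF (polar Q v (w : V)) := by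
    simp only [Finset.mul_sum]
    rw [Finset.sum_comm, Finset.sum_congr rfl fun w _ => h1 w, Finset.sum_const, Finset.card_univ, nsmul_eq_mul]
  have h3 : ∀ v, (∑ w : W, sgnF (polar Q v (w : V))) =
      if v ∈ H4.perp Q W then (Fintype.card W : ℤ) else 0 := by
    intro v
    split_ifs with hv
    · have hp : ∀ w : W, polar Q v (w : V) = 0 := fun w => by
        rw [polar_comm]; exact H4.mem_perp.mp hv w w.2
      simp [hp]
    · refine sum_sgnF_linear ((polarBilin Q v).comp W.subtype) fun h => hv fun w hw => ?_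
      exact (polar_comm Q _ _).trans (LinearMap.congr_fun h ⟨w, hw⟩)
  simp only [h3, mul_ite, mul_zero, ← Finset.sum_filter, ← Finset.sum_mul] at h2
  rw [mul_comm] at h2
  refine mul_right_cancel₀ (b := (Fintype.card W : ℤ)) (by exact_mod_cast Fintype.card_ne_zero) ?_
  rw [h2, qSumOn]

end Cfsg.Agent.H65
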