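import Mathlib

/-!
Symmetric bilinear forms over perfect fields of characteristic two: orthonormal bases.
-/

set_option autoImplicit false

open LinearMap

namespace Cfsg.Agent.H65

variable {F : Type*} [Field F] [CharP F 2]

/-- In a finite field of characteristic two every element is a square. -/
theorem isSquare_char_two [Finite F] (a : F) : ∃ r : F, r * r = a := by
  obtain ⟨r, hr⟩ := FiniteField.isSquare_of_char_two (ringChar.eq F 2) a
  exact ⟨r, hr.symm⟩

variable {V : Type*} [AddCommGroup V] [Module F V]

/-- The diagonal of a symmetric bilinear form is additive in characteristic two. -/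
theorem diag_add (β : LinearMap.BilinForm F V) (hs : ∀ u v, β u v = β v u) (u v : V) :
    β (u + v) (u + v) = β u u + β v v := by
  simp only [map_add, LinearMap.add_apply, hs v u]
  linear_combination (β u v) * (CharTwo.two_eq_zero : (2 : F) = 0)

/-- A non-alternating symmetric form has a unit vector whose perp is non-alternating, unless the dimension is one. -/
theorem exists_good_unit [FiniteDimensional F V] (β : LinearMap.BilinForm F V)
    (hs : ∀ u v, β u v = β v u) (hnd : ∀ u, (∀ v, β u v = 0) → u = 0) (hna : ∃ v, β v v ≠ 0)
    (hsq : ∀ a : F, ∃ r : F, r * r = a) :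
    ∃ v, β v v = 1 ∧ (Module.finrank F V = 1 ∨ ∃ w, β v w = 0 ∧ β w w ≠ 0) := by
  obtain ⟨v₀, hv₀⟩ := hna
  obtain ⟨r, hr⟩ := hsq (β v₀ v₀)⁻¹
  set v := r • v₀ with hvdef
  have hv : β v v = 1 := by
    simp only [hvdef, map_smul, LinearMap.smul_apply, smul_eq_mul, ← mul_assoc, hr]
    exact inv_mul_cancel₀ hv₀
  by_cases hw : ∃ w, β v w = 0 ∧ β w w ≠ 0
  · exact ⟨v, hv, Or.inr hw⟩
  · push Not at hw
    by_cases h1 : Module.finrank F V = 1
    · exact ⟨v, hv, Or.inl h1⟩
    · obtain ⟨p, hp, hp0⟩ : ∃ p, β v p = 0 ∧ p ≠ 0 := by
        by_contra h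
        push Not at h
        apply h1
        have hinj : Function.Injective (β v) := by
          rw [← LinearMap.ker_eq_bot, eq_bot_iff]
          intro x hx
          simpa using h x (by simpa using hx)
        have := LinearMap.finrank_le_finrank_of_injective hinj
        rw [Module.finrank_self] at this
        have : 0 < Module.finrank F V :=
          Module.finrank_pos_iff_exists_ne_zero.mpr ⟨v, fun e => by simp [e] at hv⟩
        omega
      obtain ⟨y, hy⟩ : ∃ y, β p y ≠ 0 := by
        by_contra h
        push Not at h
        exact hp0 (hnd p h)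
      set p' := (β p y)⁻¹ • (y + β v y • v) with hp'def
      have hp' : β v p' = 0 := by
        simp [hp'def, hv, CharTwo.add_self_eq_zero]
      have hpp' : β p p' = 1 := by
        simp [hp'def, hs p v, hp, hy]
      refine ⟨v + p, ?_, Or.inr ⟨v + p', ?_, ?_⟩⟩
      · rw [diag_add β hs, hv, hw p hp, add_zero]
      · simp [hs p v, hv, hp, hp', hpp', CharTwo.add_self_eq_zero]
      · rw [diag_add β hs, hv, hw p' hp']
        simp

/-- Non-degenerate non-alternating symmetric forms over perfect fields of characteristic two have orthonormal bases. -/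
theorem exists_orthonormal_family (n : ℕ) : ∀ {V : Type*} [AddCommGroup V] [Module F V]
    [FiniteDimensional F V] (β : LinearMap.BilinForm F V), Module.finrank F V = n →
    (∀ u v, β u v = β v u) → (∀ u, (∀ v, β u v = 0) → u = 0) → (∃ v, β v v ≠ 0) →
    (∀ a : F, ∃ r : F, r * r = a) →
    ∃ x : Fin n → V, ∀ i j, β (x i) (x j) = if i = j then 1 else 0 := by
  induction n with
  | zero => intro V _ _ _ β _ _ _ _ _; exact ⟨Fin.elim0, fun i => i.elim0⟩
  | succ n ih =>
    intro V _ _ _ β hd hs hnd hna hsq
    obtain ⟨v, hv, hcase⟩ := exists_good_unit β hs hnd hna hsq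
    set P := LinearMap.ker (β v) with hP
    have hsurj : Function.Surjective (β v) := fun a => ⟨a • v, by simp [hv]⟩
    have hdP : Module.finrank F P = n := by
      have := LinearMap.finrank_range_add_finrank_ker (β v)
      rw [LinearMap.range_eq_top.mpr hsurj, finrank_top, Module.finrank_self, hd] at this
      rw [hP]
      omega
    rcases Nat.eq_zero_or_pos n with rfl | hn
    · refine ⟨fun _ => v, fun i j => ?_⟩
      simp [hv, Subsingleton.elim (α := Fin 1) i j]
    · obtain ⟨w, hw0, hw⟩ := hcase.resolve_left (by omega)
      let γ : LinearMap.BilinForm F P := β.compl₁₂ P.subtype P.subtype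
      obtain ⟨x, hx⟩ := ih γ hdP (fun u u' => hs _ _) (by
          intro u hu
          refine Subtype.ext (hnd u fun z => ?_)
          have hz : z + β v z • v ∈ P := by
            simp [hP, hv, CharTwo.add_self_eq_zero]
          have h0 : β (u : V) v = 0 := by
            rw [hs]; exact u.2
          have := hu ⟨_, hz⟩
          simpa [γ, h0] using this)
        ⟨⟨w, hw0⟩, hw⟩ hsq
      refine ⟨Fin.cons v (fun i => (x i : V)), fun i j => ?_⟩
      induction i using Fin.cases with
      | zero =>
        induction j using Fin.cases with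
        | zero => simp [hv]
        | succ j => simp [(Fin.succ_ne_zero j).symm, LinearMap.mem_ker.mp (x j).2]
      | succ i =>
        induction j using Fin.cases with
        | zero => simp [Fin.succ_ne_zero i, hs _ v, LinearMap.mem_ker.mp (x i).2]
        | succ j => simpa [γ] using hx i j

end Cfsg.Agent.H65
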