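import Cfsg.Agent.H2.Basis
import Cfsg.Agent.H5.OrthBasic
import Cfsg.Agent.H65.SymBilin
import Cfsg.Agent.H65.QSum

/-!
Elements of an orthogonal group in characteristic two that are conjugate in the symplectic group are conjugate.
-/

set_option autoImplicit false

open QuadraticMap

namespace Cfsg.Agent.H65

variable {F V : Type*} [Field F] [CharP F 2] [AddCommGroup V] [Module F V]

omit [CharP F 2] in
/-- An isometry of `Q` preserves the polar form. -/
theorem qIsoms_le_isometries (Q : QuadraticForm F V) :
    H5.orth Q ≤ H2.isometries (polarBilin Q) := fun g hg u v => by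
  simpa using H5.orth_polar ⟨g, hg⟩ u v

/-- The transvection `v ↦ v + c f(u,v) u` of the polar form. -/
def polarTransv (Q : QuadraticForm F V) (u : V) (c : F) : V ≃ₗ[F] V :=
  LinearEquiv.ofInvolutive (LinearMap.id + (c • polarBilin Q u).smulRight u) fun v => by
    simp only [LinearMap.add_apply, LinearMap.id_apply, LinearMap.smulRight_apply, LinearMap.smul_apply,
      polarBilin_apply_apply, smul_eq_mul, polar_add_right, polar_smul_right, polar_self_char_two, mul_zero,
      add_zero]
    rw [add_assoc, ← add_smul, CharTwo.add_self_eq_zero, zero_smul, add_zero]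

@[simp] theorem polarTransv_apply (Q : QuadraticForm F V) (u : V) (c : F) (v : V) :
    polarTransv Q u c v = v + (c * polar Q u v) • u := rfl

theorem polarTransv_polarTransv (Q : QuadraticForm F V) (u : V) (c : F) (v : V) :
    polarTransv Q u c (polarTransv Q u c v) = v := by
  simp only [polarTransv_apply, polar_add_right, polar_smul_right, polar_self_char_two, smul_eq_mul,
    mul_zero, add_zero]
  rw [add_assoc, ← add_smul, CharTwo.add_self_eq_zero, zero_smul, add_zero]

theorem polarTransv_comm (Q : QuadraticForm F V) {t : V ≃ₗ[F] V} (ht : t ∈ H5.orth Q) (u : V) (c : F)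
    (htu : t u = u) (v : V) : polarTransv Q u c (t v) = t (polarTransv Q u c v) := by
  have : polar Q u (t v) = polar Q u v := by
    conv_lhs => rw [← htu]
    exact H5.orth_polar ⟨t, ht⟩ u v
  simp [this, htu]

variable [Fintype F] [Fintype V] [FiniteDimensional F V]

/-- The difference of two forms with equal polar is the square of a functional. -/
theorem exists_sq_diff (Q : QuadraticForm F V) (hQ : (polarBilin Q).Nondegenerate) {g : V ≃ₗ[F] V}
    (hg : g ∈ H2.isometries (polarBilin Q)) : ∃ u, ∀ v, Q (g v) = Q v + polar Q u v ^ 2 := by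
  choose l hl using fun v => isSquare_char_two (Q (g v) + Q v)
  have inj : ∀ a b : F, a * a = b * b → a = b := fun a b h => by
    have h2 : (a + b) ^ 2 = 0 := by
      rw [CharTwo.add_sq, pow_two, pow_two, h, CharTwo.add_self_eq_zero]
    exact CharTwo.add_eq_zero.mp (pow_eq_zero_iff two_ne_zero |>.mp h2)
  let L : V →ₗ[F] F :=
    { toFun := l
      map_add' := fun a b => inj _ _ (by
        have hp : polar Q (g a) (g b) = polar Q a b := hg a b
        rw [← pow_two (l a + l b), CharTwo.add_sq, pow_two, pow_two, hl, hl, hl, _root_.map_add g,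
          QuadraticMap.map_add Q, QuadraticMap.map_add Q, hp]
        linear_combination polar Q a b * (CharTwo.two_eq_zero : (2 : F) = 0))
      map_smul' := fun c a => inj _ _ (by
        rw [RingHom.id_apply, smul_eq_mul, hl, map_smul, QuadraticMap.map_smul, QuadraticMap.map_smul,
          smul_eq_mul, smul_eq_mul]
        linear_combination -(c * c) * hl a) }
  obtain ⟨u, hu⟩ := H4.exists_polar_eq hQ L
  refine ⟨u, fun v => ?_⟩
  rw [hu, pow_two, show L v * L v = Q (g v) + Q v from hl v]
  linear_combination -(Q v) * (CharTwo.two_eq_zero : (2 : F) = 0)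

/-- Conjugacy in `Sp` implies conjugacy in `O` in characteristic two. -/
theorem orth_conj_of_symp_conj (Q : QuadraticForm F V) (hQ : (polarBilin Q).Nondegenerate)
    {t s : V ≃ₗ[F] V} (ht : t ∈ H5.orth Q) (hs : s ∈ H5.orth Q) {g : V ≃ₗ[F] V}
    (hg : g ∈ H2.isometries (polarBilin Q)) (hconj : ∀ v, g (t v) = s (g v)) :
    ∃ g' ∈ H5.orth Q, ∀ v, g' (t v) = s (g' v) := by
  obtain ⟨u, hu⟩ := exists_sq_diff Q hQ hg
  have inj : ∀ a b : F, a ^ 2 = b ^ 2 → a = b := fun a b h => by
    have h2 : (a + b) ^ 2 = 0 := by rw [CharTwo.add_sq, h, CharTwo.add_self_eq_zero]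
    exact CharTwo.add_eq_zero.mp (pow_eq_zero_iff two_ne_zero |>.mp h2)
  have htu : t u = u := by
    refine sub_eq_zero.mp (H4.eq_zero_of_polar hQ fun w => ?_)
    obtain ⟨v, rfl⟩ := t.surjective w
    have h2 : polar Q u (t v) = polar Q u v := by
      refine inj _ _ ?_
      have h1 := hu (t v)
      rw [hconj, H5.mem_orth.mp hs, hu v, H5.mem_orth.mp ht] at h1
      exact (add_left_cancel h1).symm
    rw [polar_sub_left, h2, H5.orth_polar ⟨t, ht⟩, sub_self]
  have hsum : sgnF (Q u) = 1 := by
    have h1 := qSum_twist Q u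
    rw [← Finset.sum_congr rfl (fun v _ => congrArg sgnF (hu v))] at h1
    rw [show (∑ v, sgnF (Q (g v))) = qSum Q from qSum_congr Q g.toEquiv] at h1
    exact mul_right_cancel₀ (qSum_ne_zero Q hQ) (h1.symm.trans (one_mul _).symm)
  obtain ⟨y, hy⟩ := (sgnF_eq_one_iff _).mp hsum
  obtain ⟨c, hc⟩ : ∃ c, c + c ^ 2 * Q u = 1 := by
    by_cases h0 : Q u = 0
    · exact ⟨1, by rw [h0, mul_zero, add_zero]⟩
    · refine ⟨y / Q u, ?_⟩
      field_simp
      linear_combination hy
  have hT : ∀ v, Q (polarTransv Q u c v) = Q (g v) := fun v => by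
    rw [polarTransv_apply, QuadraticMap.map_add Q, QuadraticMap.map_smul, polar_smul_right, polar_comm Q v u, hu]
    simp only [smul_eq_mul]
    linear_combination (polar Q u v) ^ 2 * hc
  refine ⟨(polarTransv Q u c).trans g, fun v => ?_, fun v => ?_⟩
  · rw [LinearEquiv.trans_apply, ← hT, polarTransv_polarTransv]
  · rw [LinearEquiv.trans_apply, LinearEquiv.trans_apply, polarTransv_comm Q ht u c htu, hconj]

end Cfsg.Agent.H65
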