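import Cfsg.Agent.H5.OrthBasic
import Cfsg.Agent.H4.StdForms
import Cfsg.Agent.H65.OrthConj

/-!
Bridges between `Cfsg.isometryGroup` and orthogonal groups in characteristic two.
-/

set_option autoImplicit false

open QuadraticMap Matrix

namespace Cfsg.Agent.H65

variable {F : Type*} [Field F] {ι : Type} [Fintype ι] [DecidableEq ι]

/-- Invertible matrices as linear automorphisms. -/
noncomputable def glLin (F : Type*) [Field F] (ι : Type) [Fintype ι] [DecidableEq ι] :
    Matrix.GeneralLinearGroup ι F ≃* ((ι → F) ≃ₗ[F] (ι → F)) :=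
  Matrix.GeneralLinearGroup.toLin.trans (LinearMap.GeneralLinearGroup.generalLinearEquiv F (ι → F))

@[simp] theorem glLin_apply (g : Matrix.GeneralLinearGroup ι F) (x : ι → F) :
    glLin F ι g x = (g : Matrix ι ι F) *ᵥ x := rfl

theorem isoEquiv_val (Q : QuadraticForm F (ι → F)) {f : (ι → F) → F} (hf : ⇑Q = f)
    (g : Cfsg.isometryGroup F f) :
    ((H5.isoEquiv Q hf g : H5.orth Q) : (ι → F) ≃ₗ[F] (ι → F)) = glLin F ι g :=
  LinearEquiv.ext fun _ => rfl

variable [CharP F 2] [Fintype F]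

/-- In characteristic two conjugacy in `O` is conjugacy under the group of the polar form. -/
theorem isometryGroup_isConj_iff (Q : QuadraticForm F (ι → F)) {f : (ι → F) → F} (hf : ⇑Q = f)
    (hQ : (polarBilin Q).Nondegenerate) (t s : Cfsg.isometryGroup F f) :
    IsConj t s ↔ ∃ g ∈ Cfsg.preserving (Units.coeHom (Matrix ι ι F))
        (fun u v => f (u + v) - f u - f v),
      g * (t : Matrix.GeneralLinearGroup ι F) * g⁻¹ = s := by
  subst hf
  constructor
  · intro h
    obtain ⟨c, hc⟩ := isConj_iff.mp h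
    refine ⟨c, fun u v => ?_, by rw [← hc]; rfl⟩
    show polar Q _ _ = polar Q u v
    exact H5.orth_polar (H5.isoEquiv Q rfl c) u v
  · rintro ⟨g, hg, h⟩
    rw [mul_inv_eq_iff_eq_mul] at h
    have hiso : ∀ (x : Cfsg.isometryGroup F ⇑Q),
        glLin F ι (x : Matrix.GeneralLinearGroup ι F) ∈ H5.orth Q := fun x => by
      rw [← isoEquiv_val Q rfl x]; exact (H5.isoEquiv Q rfl x).2
    obtain ⟨g', hg', hc⟩ := orth_conj_of_symp_conj Q hQ (hiso t) (hiso s) (g := glLin F ι g)
      (fun u v => hg u v) (fun v => by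
        have := congrArg (fun z : Matrix.GeneralLinearGroup ι F => (z : Matrix ι ι F) *ᵥ v) h
        simpa [← Matrix.mulVec_mulVec] using this)
    refine isConj_iff.mpr ⟨(H5.isoEquiv Q rfl).symm ⟨g', hg'⟩, ?_⟩
    rw [mul_inv_eq_iff_eq_mul]
    apply (H5.isoEquiv Q rfl).injective
    simp only [map_mul, MulEquiv.apply_symm_apply]
    exact H5.orth_ext fun x => by
      rw [H5.orth_mul_apply, H5.orth_mul_apply, isoEquiv_val, isoEquiv_val]
      exact hc x

omit [Fintype ι] [DecidableEq ι] [CharP F 2] [Fintype F] in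
theorem qPlus_nd (m : ℕ) : (polarBilin (H4.qPlus m F)).Nondegenerate := H4.qPlus_nondegenerate m

omit [Fintype ι] [DecidableEq ι] in
theorem qMinus_nd {a b : F} (m : ℕ)
    (hab : ∀ z₁ z₂ : F, z₁ ^ 2 + a * z₁ * z₂ + b * z₂ ^ 2 = 0 → z₁ = 0 ∧ z₂ = 0) :
    (polarBilin (H4.qMinus m F a b)).Nondegenerate := by
  refine H4.qMinus_nondegenerate (H4.disc_ne_zero_of_anisotropic hab fun c _ => ?_) m
  obtain ⟨r, hr⟩ := isSquare_char_two c
  exact ⟨r, by rw [pow_two, hr]⟩

end Cfsg.Agent.H65
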