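import Cfsg.Agent.H5.OmegaCriterion
import Cfsg.Agent.H4.WittExt
import Cfsg.Agent.H65.OrthMatrix

/-!
The commutator subgroup of an orthogonal group in characteristic two and centralizing reflections.
-/

set_option autoImplicit false

open QuadraticMap

namespace Cfsg.Agent.H65

variable {F V : Type*} [Field F] [CharP F 2] [AddCommGroup V] [Module F V] [Finite F] [Finite V]
  [FiniteDimensional F V] {Q : QuadraticForm F V}

/-- In characteristic two `Ω` is the kernel of the Dickson invariant. -/
theorem mem_omega_iff_even (hQ : (polarBilin Q).Nondegenerate)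
    (h : Nat.card F ≠ 2 ∨ Module.finrank F V ≠ 4) (g : H5.orth Q) :
    g ∈ commutator (H5.orth Q) ↔ Even (H5.rk g) := by
  rw [H5.mem_commutator_iff hQ h, H5.spin_of_two_eq_zero CharTwo.two_eq_zero, eq_self_iff_true, and_true,
    H5.dick, neg_one_pow_eq_one_iff_even (by decide)]

/-- A reflection in a fixed vector commutes with the isometry. -/
theorem refl_commute_of_fixed (g : H5.orth Q) {u : V} (hu : (g : V ≃ₗ[F] V) u = u) :
    g * H5.refl Q u = H5.refl Q u * g := by
  rw [← mul_inv_eq_iff_eq_mul, H5.refl_conj, hu]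

/-- Conjugate elements of `O` are conjugate by an element of `Ω` unless the fixed space is totally singular. -/
theorem exists_omega_conj (hQ : (polarBilin Q).Nondegenerate)
    (h : Nat.card F ≠ 2 ∨ Module.finrank F V ≠ 4) {t s g : H5.orth Q} (hg : g * t * g⁻¹ = s)
    (hns : ∃ u ∈ H5.fixer t, Q u ≠ 0) :
    ∃ g' ∈ commutator (H5.orth Q), g' * t * g'⁻¹ = s := by
  by_cases hgO : g ∈ commutator (H5.orth Q)
  · exact ⟨g, hgO, hg⟩
  · obtain ⟨u, hu, hQu⟩ := hns
    refine ⟨g * H5.refl Q u, ?_, ?_⟩
    · have hidx := H5.commutator_index_two (Q := Q) CharTwo.two_eq_zero hQ h ⟨u, hQu⟩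
      rw [Subgroup.mul_mem_iff_of_index_two hidx]
      refine iff_of_false hgO fun hr => ?_
      rw [H5.mem_commutator_iff hQ h, H5.dick_refl hQ hQu] at hr
      exact absurd hr.1 (by decide)
    · rw [mul_inv_rev, H5.refl_inv, ← hg]
      have := refl_commute_of_fixed t (H5.mem_fixer.mp hu)
      calc g * H5.refl Q u * t * (H5.refl Q u * g⁻¹) = g * (H5.refl Q u * t) * H5.refl Q u * g⁻¹ := by group
        _ = g * (t * H5.refl Q u) * H5.refl Q u * g⁻¹ := by rw [this]
        _ = g * t * (H5.refl Q u * H5.refl Q u) * g⁻¹ := by group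
        _ = g * t * g⁻¹ := by rw [H5.refl_mul_self, mul_one]

omit [CharP F 2] [Finite F] [Finite V] in
/-- A totally singular subspace of half dimension is its own perp. -/
theorem perp_eq_self_of_singular (hQ : (polarBilin Q).Nondegenerate) {W : Submodule F V}
    (hW : ∀ w ∈ W, Q w = 0) (hd : 2 * Module.finrank F W = Module.finrank F V) :
    H4.perp Q W = W := by
  have hle : W ≤ H4.perp Q W := fun a ha b hb => H4.polar_eq_zero_of_singular hW hb ha
  refine (Submodule.eq_of_le_of_finrank_eq hle ?_).symm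
  rw [H4.finrank_perp hQ]
  omega

omit [Finite F] [Finite V] in
/-- Facts about an involution with totally singular fixed space. -/
theorem involution_singular_fixer (hQ : (polarBilin Q).Nondegenerate) (t : H5.orth Q) (ht : t * t = 1)
    (hs : ∀ u ∈ H5.fixer t, Q u = 0) :
    2 * H5.rk t = Module.finrank F V ∧ H5.resid t = H5.fixer t := by
  have hle : H5.resid t ≤ H5.fixer t := by
    rintro _ ⟨x, rfl⟩
    rw [H5.mem_fixer, H5.dLin_apply, map_sub]
    rw [← H5.orth_mul_apply, ht]
    show x - (t : V ≃ₗ[F] V) x = _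
    rw [← neg_sub, ← neg_one_smul F, CharTwo.neg_eq, one_smul]
  have h1 := H5.rk_add_finrank_fixer t
  have h2 := H4.two_mul_finrank_le hQ hs
  have h3 := Submodule.finrank_mono hle
  unfold H5.rk at h1 ⊢
  exact ⟨by omega, Submodule.eq_of_le_of_finrank_eq hle (by omega)⟩

end Cfsg.Agent.H65
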